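import Groth.Agent.H13GenEtale.Split
import Groth.Agent.H13AlgSp.DenseFinite
import Groth.Agent.H13AlgSp.DecentGeneric
import Groth.Agent.H12AlgSp.OpenSub
import Groth.Agent.H13AlgSp.AffineLocal
import Groth.Agent.H8Props.FieldDimFibre

/-!
Near a point of codimension zero an étale cover is split by a finite étale cover.
-/

set_option autoImplicit false
set_option backward.isDefEq.respectTransparency false
set_option linter.style.haveILetI false
universe u

open CategoryTheory CategoryTheory.Limits AlgebraicGeometry Topology TopologicalSpace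
open AlgSp Groth.Agent.H13AlgSp Groth.Agent.H12AlgSp Groth.Agent.H13AlgSp.DenseFinite

namespace Groth.Agent.H13GenEtale

variable {S : Scheme.{u}} {X : Sp S}

/-- The points of codimension zero of a decent space with finitely many components are finite in number. -/
theorem finite_codimZero_of_components (hX : IsAlgSpace X) (hd : IsDecent X)
    (h : (irreducibleComponents (Points X)).Finite) : {x : Points X | CodimZero X x}.Finite := by
  have := t0Space_points hX hd
  refine Set.Finite.of_finite_image (f := fun x => closure ({x} : Set (Points X))) (h.subset ?_) ?_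
  · rintro _ ⟨x, hx, rfl⟩
    obtain ⟨T, hT, hg⟩ := (component_iff_hasAt hX hd x).2 hx
    show closure {x} ∈ _
    rw [hg.def]
    exact hT
  · intro x _ x' _ e
    have e' : closure ({x'} : Set (Points X)) = closure {x} := e.symm
    exact (isGenericPoint_closure (x := x)).eq (show IsGenericPoint x' (closure {x}) from e')

/-- Near a point of codimension zero, an étale cover which is finite there is split by a finite étale cover. -/
theorem exists_split_chart (hX : IsAlgSpace X) (hd : IsDecent X) (hY0 : {x : Points X | CodimZero X x}.Finite)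
    {V₀ : Over S} (b₀ : (yon S).obj V₀ ⟶ X) (hb : RepWith @Etale b₀) {W : Set (Points X)} (hW : IsOpen W)
    (hfin : IsFiniteMor (pullback.fst (openSubι W) b₀)) {y : Points X} (hy : CodimZero X y) (hyW : y ∈ W) :
    ∃ (V Z : Over S) (j : (yon S).obj V ⟶ X) (q : Z ⟶ V), IsAffine V.left ∧ IsAffine Z.left ∧
      RepWith @IsOpenImmersion j ∧ y ∈ Set.range (Points.ofPt j) ∧
      (∀ w, CodimZero X (Points.ofPt j w) → Points.ofPt j w = y) ∧
      IsFinite q.left ∧ Etale q.left ∧ Surjective q.left ∧
      ∀ (P : Over S) (a : P ⟶ Z) (b : P ⟶ V₀),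
        IsPullback ((yon S).map a) ((yon S).map b) ((yon S).map q ≫ j) b₀ →
        ∀ e : P.left, ∃ N : P.left.Opens, IsClopen (N : Set P.left) ∧ e ∈ N ∧ Mono (N.ι ≫ a.left) := by
  obtain ⟨V₁, j₁, v₁, hV₁, hj₁, hjv, honly⟩ := exists_affine_open_nhd hX hd hY0 hy
  obtain ⟨O, hO, hvO, hOW⟩ := exists_isAffineOpen_mem_and_subset
    (U := (⟨_, hW.preimage (Points.continuous_ofPt j₁)⟩ : V₁.left.Opens)) (x := v₁)
    (show Points.ofPt j₁ v₁ ∈ W from hjv ▸ hyW)
  let V : Over S := Over.mk (O.ι ≫ V₁.hom)
  let κ : V ⟶ V₁ := Over.homMk O.ι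
  haveI : IsAffine V.left := hO
  let j := (yon S).map κ ≫ j₁
  have hj : RepWith @IsOpenImmersion j :=
    repWith_comp ((repWith_yon_map_iff _ κ).2 (inferInstanceAs (IsOpenImmersion O.ι))) hj₁
  let v : V.left := ⟨v₁, hvO⟩
  have hjv' : Points.ofPt j v = y := by
    show Points.ofPt ((yon S).map κ ≫ j₁) v = y
    rw [ofPt_map]
    exact hjv
  have honly' : ∀ w : V.left, CodimZero X (Points.ofPt j w) → w = v := fun w hw =>
    Subtype.ext (honly _ (by rwa [show Points.ofPt j w = Points.ofPt j₁ (κ.left w) from ofPt_map κ j₁ w] at hw))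
  have hgen : ∀ η ∈ genericPoints V.left, η = v := fun η hη =>
    honly' η ((codimZero_iff_mem_genericPoints hX (repWith_etale_of_openImmersion hj) η).2 hη)
  haveI : PreconnectedSpace V.left := by
    have hc : closure ({v} : Set V.left) = Set.univ := Set.eq_univ_of_forall fun x => by
      obtain ⟨η, hη, hmem⟩ := Groth.Agent.H8Props.FieldDim.exists_component_generization x
      rw [← hgen η hmem]
      exact hη.mem_closure
    exact ⟨hc ▸ isPreconnected_singleton.closure⟩
  obtain ⟨l, hl⟩ := exists_openSub_lift (W := W) j fun t => by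
    show Points.ofPt ((yon S).map κ ≫ j₁) t ∈ W
    rw [ofPt_map]
    exact hOW t.2
  obtain ⟨E, p, k', sqE⟩ := hb.1 j
  obtain ⟨k, rfl⟩ := (yon S).map_surjective k'
  have hp : IsFinite p.left := by
    have sq : IsPullback ((yon S).map k) ((yon S).map p) b₀ j := sqE
    obtain ⟨m, hm₁, hm₂⟩ := (IsPullback.of_hasPullback (openSubι W) b₀).exists_lift ((yon S).map p ≫ l)
      ((yon S).map k) (by rw [Category.assoc, hl, sq.w])
    refine (repWith_yon_map_iff @IsFinite p).1 (repWith_of_isPullback (fst := m) (g := l) ?_ (isFiniteMor_iff.1 hfin))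
    refine IsPullback.of_right (h₁₁ := m) ?_ hm₁ (IsPullback.of_hasPullback (openSubι W) b₀).flip
    rw [hm₂, hl]
    exact sq
  haveI := hp
  haveI : Etale p.left := hb.property _ _ p sqE
  obtain ⟨Zs, q₀, hZa, hqf, hqe, hqs, hsplit⟩ := exists_split p.left
  let Z : Over S := Over.mk (q₀ ≫ V.hom)
  let q : Z ⟶ V := Over.homMk q₀
  refine ⟨V, Z, j, q, inferInstance, hZa, hj, ⟨v, hjv'⟩, fun w hw => honly' w hw ▸ hjv', hqf, hqe, hqs,
    fun P a b sqP e => ?_⟩
  obtain ⟨m', hm₁, hm₂⟩ := sqE.exists_lift ((yon S).map b) ((yon S).map (a ≫ q))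
    (by rw [Functor.map_comp, Category.assoc]; exact sqP.w.symm)
  obtain ⟨m, rfl⟩ := (yon S).map_surjective m'
  have sqY : IsPullback ((yon S).map m) ((yon S).map a) ((yon S).map p) ((yon S).map q) :=
    IsPullback.of_right (by rw [hm₁]; exact sqP.flip) (by rw [hm₂, Functor.map_comp]) sqE
  have sqS : IsPullback m a p q := IsPullback.of_map (yon S)
    ((yon S).map_injective (by rw [Functor.map_comp, Functor.map_comp]; exact sqY.w)) sqY
  exact hsplit P.left m.left a.left (sqS.map (Over.forget S)) e

end Groth.Agent.H13GenEtale
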