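import Groth.Agent.H12AlgSp.AbsInt.Cover

/-!
A space which is integrally closed in an affine scheme splitting a chart is a scheme near that chart.
-/

set_option autoImplicit false
set_option linter.style.haveILetI false
set_option maxHeartbeats 800000
universe u

open CategoryTheory CategoryTheory.Limits AlgebraicGeometry Topology TopologicalSpace
open AlgSp Groth.Agent.H13AlgSp Groth.Agent.H12AlgSp Groth.Agent.H12AlgSp.AbsInt

namespace Groth.Agent.H13GenEtale

variable {S : Scheme.{u}} [QuasiSeparatedSpace S]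

/-- An étale affine chart of a space integrally closed in a scheme over which the chart is split is Zariski locally an
open immersion. -/
theorem exists_opens_openImmersion {Q : Sp S} (hQ : IsAlgSpace Q) (hQs : IsQuasiSeparatedSp Q) {Z : Over S}
    [IsAffine Z.left]
    {c' : (yon S).obj Z ⟶ Q} (h : IsRelNormalization c' (𝟙 Q) c') {V : Over S} [IsAffine V.left]
    {v : (yon S).obj V ⟶ Q} (hv : RepWith @Etale v)
    (hclopen : ∀ (E : Over S) (q : E ⟶ Z) (r : E ⟶ V), IsPullback ((yon S).map q) ((yon S).map r) c' v →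
      ∀ e : E.left, ∃ N : E.left.Opens, IsClopen (N : Set E.left) ∧ e ∈ N ∧ Mono (N.ι ≫ q.left))
    (x : V.left) :
    ∃ W : V.left.Opens, x ∈ W ∧ RepWith @IsOpenImmersion ((yon S).map (openIncl V W) ≫ v) := by
  classical
  obtain ⟨E, q, r, sqE, hqe, hEc, hEs, hinj, hint⟩ := chart_data hQ hQs h hv
  haveI := hEs
  haveI : IsSeparated q.left := inferInstance
  haveI : QuasiCompact q.left := inferInstance
  choose N hN heN hmono using hclopen E q r sqE
  choose ε' hε' hbas using fun e => H18Et.FEtRestrictGamma.exists_idempotent_of_isClopen (N e : Set E.left) (hN e)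
  have hlift : ∀ e, ∃ a, r.left.appTop.hom a = ε' e := fun e => hint _
    ⟨Polynomial.X ^ 2 - Polynomial.X, Polynomial.monic_X_pow_sub (Polynomial.degree_X_le.trans_lt (by norm_num)), by simp [sq, hε' e]⟩
  choose ε hε using hlift
  have hpre : ∀ e, r.left ⁻¹ᵁ V.left.basicOpen (ε e) = N e := fun e => by
    rw [Scheme.preimage_basicOpen_top]
    exact Opens.ext ((congrArg (fun b => (E.left.basicOpen b : Set E.left)) (hε e)).trans (hbas e))
  obtain ⟨t, ht⟩ := isCompact_univ.elim_finite_subcover (fun e => (N e : Set E.left)) (fun e => (N e).isOpen)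
    (fun e _ => Set.mem_iUnion.2 ⟨e, heN e⟩)
  have hcov : ∃ e, x ∈ V.left.basicOpen (ε e) := by
    by_contra hno
    push_neg at hno
    have h1 : ∀ e, x ∈ V.left.basicOpen (1 - ε e) := fun e => by
      rw [Scheme.mem_basicOpen_top, map_sub, map_one]
      exact (IsLocalRing.isUnit_or_isUnit_one_sub_self _).resolve_left
        (fun hu => hno e ((Scheme.mem_basicOpen_top _ _ _).2 hu))
    have h2 : x ∈ V.left.basicOpen (∏ e ∈ t, (1 - ε e)) := by
      rw [Scheme.mem_basicOpen_top, map_prod, IsUnit.prod_iff]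
      exact fun e _ => (Scheme.mem_basicOpen_top _ _ _).1 (h1 e)
    have h3 : E.left.basicOpen (r.left.appTop.hom (∏ e ∈ t, (1 - ε e))) = ⊥ := by
      refine eq_bot_iff.2 fun z hz => ?_
      obtain ⟨e, het, hze⟩ : ∃ e ∈ t, z ∈ (N e : Set E.left) := by simpa using ht (Set.mem_univ z)
      rw [Scheme.mem_basicOpen_top, map_prod, map_prod, IsUnit.prod_iff] at hz
      have hu := hz e het
      rw [map_sub, map_one, hε e, map_sub, map_one] at hu
      rw [← hbas e, SetLike.mem_coe, Scheme.mem_basicOpen_top] at hze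
      have hp := hze.mul hu
      rw [mul_sub, mul_one, ← map_mul, hε' e, sub_self] at hp
      exact (not_isUnit_zero hp).elim
    obtain ⟨n, hn⟩ := (Scheme.isNilpotent_iff_basicOpen_eq_bot _).2 h3
    have h4 : IsNilpotent (∏ e ∈ t, (1 - ε e)) := ⟨n, hinj (by rw [map_pow, hn, map_zero])⟩
    rw [Scheme.isNilpotent_iff_basicOpen_eq_bot] at h4
    rw [h4] at h2
    exact h2
  obtain ⟨e, hxe⟩ := hcov
  refine ⟨V.left.basicOpen (ε e), hxe, ?_⟩
  let W : Over S := openOver V (V.left.basicOpen (ε e))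
  let ι : W ⟶ V := openIncl V (V.left.basicOpen (ε e))
  let w := (yon S).map ι ≫ v
  haveI : IsOpenImmersion ι.left := inferInstanceAs (IsOpenImmersion (V.left.basicOpen (ε e)).ι)
  have hwe : RepWith @Etale w := repWith_comp ((repWith_yon_map_iff _ ι).2 (inferInstance : Etale ι.left)) hv
  haveI : IsAffine W.left := (isAffineOpen_top V.left).basicOpen (ε e)
  suffices Mono w from repWith_openImmersion_of_etale_mono hQ w hwe
  obtain ⟨D, p₂, p₁', sqD⟩ := hQ.representable_from_yon w w
  obtain ⟨p₁, rfl⟩ := (yon S).map_surjective p₁'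
  obtain ⟨δ', hδ₁', hδ₂'⟩ := sqD.exists_lift (𝟙 _) (𝟙 _) rfl
  obtain ⟨δ, rfl⟩ := (yon S).map_surjective δ'
  have hδ₁ : δ ≫ p₁ = 𝟙 W := (yon S).map_injective (by rw [Functor.map_comp, hδ₁', CategoryTheory.Functor.map_id])
  have hδ₂ : δ ≫ p₂ = 𝟙 W := (yon S).map_injective (by rw [Functor.map_comp, hδ₂', CategoryTheory.Functor.map_id])
  haveI hp₁ : Etale p₁.left := (repWith_yon_map_iff _ p₁).1 (repWith_of_isPullback sqD.flip hwe)
  haveI : D.left.IsSeparated := isSeparated_left sqD
  have hsec : δ.left ≫ p₁.left = 𝟙 _ := congrArg (fun t => t.left) hδ₁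
  haveI : Etale (δ.left ≫ p₁.left) := by rw [hsec]; infer_instance
  haveI : Etale δ.left := Etale.of_comp δ.left p₁.left
  haveI : IsOpenImmersion δ.left := H15Subtr.isOpenImmersion_section p₁.left δ.left hsec
  haveI : IsClosedImmersion δ.left := by
    haveI : IsClosedImmersion (δ.left ≫ p₁.left) := by rw [hsec]; infer_instance
    exact IsClosedImmersion.of_comp δ.left p₁.left
  have hrange : ∀ d : D.left, d ∈ Set.range δ.left := by
    by_contra! hd
    obtain ⟨d, hd⟩ := hd
    obtain ⟨K, hK, hdK, hKsub⟩ := exists_isAffineOpen_mem_and_subset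
      (U := ⟨(Set.range δ.left)ᶜ, δ.left.isClosedEmbedding.isClosed_range.isOpen_compl⟩) (x := d)
      (show d ∈ (Set.range δ.left)ᶜ from hd)
    let D₀ : Over S := openOver D K
    let κ : D₀ ⟶ D := openIncl D K
    haveI : IsAffine D₀.left := hK
    haveI : IsOpenImmersion κ.left := inferInstanceAs (IsOpenImmersion K.ι)
    haveI : Etale (κ.left ≫ p₁.left) := inferInstance
    have hve : RepWith @Etale ((yon S).map (κ ≫ p₁) ≫ w) :=
      repWith_comp ((repWith_yon_map_iff _ _).2 (inferInstanceAs (Etale (κ.left ≫ p₁.left)))) hwe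
    obtain ⟨E₀, q₀, r₀, sq₀, -, -, -, hinj₀, -⟩ := chart_data hQ hQs h hve
    have hlift : ∀ s : E₀ ⟶ W, (yon S).map s ≫ w = (yon S).map q₀ ≫ c' →
        ∃ l : E₀ ⟶ E, l ≫ q = q₀ ∧ l ≫ r = s ≫ ι := fun s hs => by
      obtain ⟨l', hl₁, hl₂⟩ := sqE.exists_lift ((yon S).map q₀) ((yon S).map (s ≫ ι))
        (by rw [Functor.map_comp, Category.assoc]; exact hs.symm)
      obtain ⟨l, rfl⟩ := (yon S).map_surjective l'
      exact ⟨l, (yon S).map_injective (by rw [Functor.map_comp, hl₁]),
        (yon S).map_injective (by rw [Functor.map_comp, hl₂])⟩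
    have hw₁ : (yon S).map (r₀ ≫ κ ≫ p₁) ≫ w = (yon S).map q₀ ≫ c' := by
      rw [sq₀.w, Functor.map_comp, Category.assoc]
    have hw₂ : (yon S).map (r₀ ≫ κ ≫ p₂) ≫ w = (yon S).map q₀ ≫ c' := by
      rw [← hw₁]
      simp only [Functor.map_comp, Category.assoc]
      rw [sqD.w]
    obtain ⟨l₁, hl₁, hl₁'⟩ := hlift _ hw₁
    obtain ⟨l₂, hl₂, hl₂'⟩ := hlift _ hw₂
    have hmem : ∀ (s : E₀ ⟶ W) (l : E₀ ⟶ E), l ≫ r = s ≫ ι →
        Set.range l.left ⊆ Set.range (N e).ι := fun s l hl => by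
      rintro _ ⟨z, rfl⟩
      rw [Scheme.Opens.range_ι, ← hpre e]
      show (l.left ≫ r.left) z ∈ V.left.basicOpen (ε e)
      rw [show l.left ≫ r.left = s.left ≫ ι.left from congrArg (fun t => t.left) hl]
      exact (s.left z).2
    have hl : l₁.left = l₂.left := by
      rw [← IsOpenImmersion.lift_fac (N e).ι l₁.left (hmem _ _ hl₁'),
        ← IsOpenImmersion.lift_fac (N e).ι l₂.left (hmem _ _ hl₂')]
      congr 1
      haveI := hmono e
      rw [← cancel_mono ((N e).ι ≫ q.left), IsOpenImmersion.lift_fac_assoc, IsOpenImmersion.lift_fac_assoc]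
      exact congrArg (fun t => t.left) (hl₁.trans hl₂.symm)
    have hp : (r₀ ≫ κ ≫ p₁).left = (r₀ ≫ κ ≫ p₂).left := by
      rw [← cancel_mono ι.left, ← Over.comp_left, ← Over.comp_left, ← hl₁', ← hl₂', Over.comp_left,
        Over.comp_left, hl]
    have hfac : r₀ ≫ κ = (r₀ ≫ κ ≫ p₁) ≫ δ := by
      apply (yon S).map_injective
      apply sqD.hom_ext
      · rw [← Functor.map_comp, ← Functor.map_comp]
        refine congrArg _ (Over.OverMorphism.ext ?_)
        simp only [Category.assoc, hδ₁, hδ₂, Category.comp_id]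
      · rw [← Functor.map_comp, ← Functor.map_comp]
        refine congrArg _ (Over.OverMorphism.ext ?_)
        simp only [Category.assoc, hδ₁, hδ₂, Category.comp_id]
        first | exact hp | exact hp.symm
    haveI : IsEmpty E₀.left := ⟨fun z => by
      refine hKsub (r₀.left z).2 ⟨(r₀ ≫ κ ≫ p₁).left z, ?_⟩
      rw [← Scheme.Hom.comp_apply, ← Over.comp_left, ← hfac]
      rfl⟩
    haveI : Subsingleton Γ(E₀.left, ⊤) := by
      have : (⊤ : E₀.left.Opens) = ⊥ := Opens.ext (Set.eq_empty_of_isEmpty _)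
      rw [this]; infer_instance
    have h10 : (1 : Γ(D₀.left, ⊤)) = 0 := hinj₀ (Subsingleton.elim _ _)
    haveI : Subsingleton Γ(D₀.left, ⊤) := subsingleton_of_zero_eq_one h10.symm
    have hne : (⊤ : D₀.left.Opens) ≠ ⊥ := fun hb =>
      (show (⟨d, hdK⟩ : D₀.left) ∉ (⊥ : D₀.left.Opens) from id) (hb ▸ Opens.mem_top _)
    refine hne ?_
    rw [← Scheme.basicOpen_of_isUnit D₀.left (f := (1 : Γ(D₀.left, ⊤))) isUnit_one, h10, Scheme.basicOpen_zero]
  haveI : Surjective δ.left := ⟨hrange⟩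
  haveI : IsIso δ.left := (isIso_iff_isOpenImmersion_and_epi_base _).2
    ⟨inferInstance, (TopCat.epi_iff_surjective _).2 hrange⟩
  haveI : IsIso ((Over.forget S).map δ) := ‹IsIso δ.left›
  haveI : IsIso δ := isIso_of_reflects_iso δ (Over.forget S)
  have hpp : p₁ = p₂ := by rw [← cancel_epi δ, hδ₁, hδ₂]
  refine ⟨fun a b hab => ?_⟩
  obtain ⟨l, hl₁, hl₂⟩ := sqD.exists_lift a b hab
  rw [← hl₁, ← hl₂, hpp]

end Groth.Agent.H13GenEtale
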