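import Groth.Agent.H13GenEtale.Cover
import Groth.Agent.H13GenEtale.Chart
import Groth.Agent.H12AlgSp.AbsInt.Main
import Groth.Agent.H9Gal.QfhBasics

/-!
A quasi-compact quasi-separated algebraic space with finitely many components has an integral cover by a scheme
which is finite étale over a dense open.
-/

set_option autoImplicit false
set_option backward.isDefEq.respectTransparency false
set_option linter.style.haveILetI false
set_option maxHeartbeats 800000
universe u

open CategoryTheory CategoryTheory.Limits AlgebraicGeometry Topology TopologicalSpace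
open AlgSp Groth.Agent.H13AlgSp Groth.Agent.H12AlgSp Groth.Agent.H12AlgSp.AbsInt
open Groth.Agent.H13AlgSp.DenseFinite

namespace Groth.Agent.H13GenEtale

variable {S : Scheme.{u}} {X : Sp S}

/-- An étale cover of a quasi-compact space is refined by an affine one. -/
theorem exists_affine_refinement [CompactSpace (Points X)] {V : Over S} (b : (yon S).obj V ⟶ X)
    (hb : RepWith @Etale b) (hbs : RepWith @Surjective b) :
    ∃ (V₀ : Over S) (k : V₀ ⟶ V), IsAffine V₀.left ∧ Etale k.left ∧
      Function.Surjective (Points.ofPt ((yon S).map k ≫ b)) := by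
  choose v hv using surjective_ofPt_of_repWith le_rfl hbs
  choose A hA hAv _ using fun x : Points X =>
    exists_isAffineOpen_mem_and_subset (x := v x) (U := (⊤ : V.left.Opens)) trivial
  have hmap : IsOpenMap (Points.ofPt b) := isOpenMap_ofPt_of_repWith (fun _ _ g (_ : Etale g) => inferInstance) hb
  obtain ⟨t, ht⟩ := isCompact_univ.elim_finite_subcover (fun x => Points.ofPt b '' (A x : Set V.left))
    (fun x => hmap _ (A x).2) (fun x _ => Set.mem_iUnion.2 ⟨x, v x, hAv x, hv x⟩)
  obtain ⟨n, ⟨e⟩⟩ := Finite.exists_equiv_fin {x : Points X // x ∈ t}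
  let f : ∀ i : ULift.{u} (Fin n), ((A (e.symm i.down).1).toScheme) ⟶ V.left := fun i => (A (e.symm i.down).1).ι
  haveI : ∀ i : ULift.{u} (Fin n), IsAffine (A (e.symm i.down).1).toScheme := fun i => hA _
  let k₀ := Sigma.desc f
  refine ⟨Over.mk (k₀ ≫ V.hom), Over.homMk k₀, inferInstanceAs (IsAffine (∐ fun i : ULift.{u} (Fin n) => (A (e.symm i.down).1).toScheme)),
    IsZariskiLocalAtSource.sigmaDesc (P := @Etale) (fun i => inferInstanceAs (Etale (Scheme.Opens.ι _))), fun x => ?_⟩
  obtain ⟨x₀, hx₀, w, hw, rfl⟩ : ∃ x₀ ∈ t, ∃ w ∈ (A x₀ : Set V.left), Points.ofPt b w = x := by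
    simpa using ht (Set.mem_univ x)
  obtain ⟨i, hi⟩ : ∃ i : ULift.{u} (Fin n), (e.symm i.down).1 = x₀ := ⟨⟨e ⟨x₀, hx₀⟩⟩, by simp⟩
  subst hi
  refine ⟨(Sigma.ι (fun i : ULift.{u} (Fin n) => (A (e.symm i.down).1).toScheme) i) ⟨w, hw⟩, ?_⟩
  rw [ofPt_map]
  show Points.ofPt b ((Sigma.ι (fun i : ULift.{u} (Fin n) => (A (e.symm i.down).1).toScheme) i ≫ k₀) ⟨w, hw⟩) = _
  rw [Sigma.ι_desc]
  rfl

/-- The pieces cut out by the points of codimension zero. -/
structure GenCover {V₀ : Over S} (b₀ : (yon S).obj V₀ ⟶ X) where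
  /-- the scheme structure of the dense open -/
  U : Over S
  /-- the inclusion -/
  jU : (yon S).obj U ⟶ X
  open_jU : RepWith @IsOpenImmersion jU
  qc : CompactSpace U.left
  dense : Dense (Set.range (Points.map jU))
  /-- the splitting cover -/
  Z : Over S
  /-- its structure map -/
  q : Z ⟶ U
  affine : IsAffine Z.left
  finite : IsFinite q.left
  etale : Etale q.left
  surj : Surjective q.left
  split : ∀ z : Z.left, ∃ (Zy : Over S) (i : Zy ⟶ Z), IsOpenImmersion i.left ∧ IsClosed (Set.range i.left) ∧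
    z ∈ Set.range i.left ∧ ∀ (P : Over S) (a : P ⟶ Zy) (b : P ⟶ V₀),
      IsPullback ((yon S).map a) ((yon S).map b) ((yon S).map (i ≫ q) ≫ jU) b₀ →
      ∀ e : P.left, ∃ N : P.left.Opens, IsClopen (N : Set P.left) ∧ e ∈ N ∧ Mono (N.ι ≫ a.left)

/-- Over a dense open, an affine étale cover is split by a finite étale cover. -/
theorem exists_genCover [QuasiSeparatedSpace S] (hX : IsAlgSpace X) (hqs : IsQuasiSeparatedSp X)
    (hirr : (irreducibleComponents (Points X)).Finite) {V₀ : Over S} [IsAffine V₀.left]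
    (b₀ : (yon S).obj V₀ ⟶ X) (hb : RepWith @Etale b₀) :
    Nonempty (GenCover b₀) := by
  classical
  have hd := isDecent_of_isQuasiSeparatedSp hX hqs
  have hY0 := finite_codimZero_of_components hX hd hirr
  have hV0 : IsAlgSpace ((yon S).obj V₀) := IsAlgSpace.yon_obj V₀
  have hid : RepWith @Etale (𝟙 ((yon S).obj V₀)) := repWith_of_isIso _
  have hpre : ∀ x, CodimZero ((yon S).obj V₀) x ↔ CodimZero X (Points.map b₀ x) := fun x => by
    obtain ⟨u, rfl⟩ := surjective_ofPt_of_repWith le_rfl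
      (repWith_of_isIso (P := @Surjective) (𝟙 ((yon S).obj V₀))) x
    rw [Points.map_ofPt, Category.id_comp, codimZero_iff_mem_genericPoints hV0 hid u,
      codimZero_iff_mem_genericPoints hX hb u]
  have hX0 : {x : Points ((yon S).obj V₀) | CodimZero ((yon S).obj V₀) x}.Finite := by
    refine ((hY0.biUnion fun y _ => finite_fibre_of_isDecent hd y V₀ b₀ inferInstance hb).image
      (Points.ofPt (𝟙 ((yon S).obj V₀)))).subset fun x hx => ?_
    obtain ⟨u, rfl⟩ := surjective_ofPt_of_repWith le_rfl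
      (repWith_of_isIso (P := @Surjective) (𝟙 ((yon S).obj V₀))) x
    refine ⟨u, Set.mem_biUnion (x := Points.ofPt b₀ u) ?_ rfl, rfl⟩
    have := (hpre _).1 hx
    rwa [Points.map_ofPt, Category.id_comp] at this
  obtain ⟨W, hWo, hWd, hWf⟩ := exists_dense_open_finite hV0 hX
    (locP_of_repWith etLocal_lft (repWith_le (fun _ _ k (_ : Etale k) => inferInstanceAs (LocallyOfFiniteType k)) hb))
    hd hX0 hY0 hpre (Or.inl (isQuasiCompactMor_of_qc_qs hV0 hX b₀ (isQuasiCompactSp_yon_iff.2 inferInstance) hqs))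
  have hmemW : ∀ y, CodimZero X y → y ∈ W := fun y hy => by
    obtain ⟨V, j, v, hV, hj, hjv, honly⟩ := exists_affine_open_nhd hX hd hY0 hy
    obtain ⟨_, ⟨a, rfl⟩, ha⟩ := hWd.inter_open_nonempty _
      (isOpenMap_ofPt_of_repWith (fun _ _ g (_ : IsOpenImmersion g) => inferInstance) hj).isOpen_range ⟨_, v, rfl⟩
    obtain ⟨η, hη, hmem⟩ := Groth.Agent.H8Props.FieldDim.exists_component_generization a
    have := (hη.map (Points.continuous_ofPt j)).mem_open hWo ha
    rwa [honly η ((codimZero_iff_mem_genericPoints hX (DenseFinite.repWith_etale_of_openImmersion hj) η).2 hmem), hjv] at this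
  let ι := {y : Points X // CodimZero X y}
  haveI : Finite ι := hY0.to_subtype
  choose V Zc j qc hVa hZa hj hyj honly hqf hqe hqs' hsplit using
    fun y : ι => exists_split_chart hX hd hY0 b₀ hb hWo hWf y.2 (hmemW _ y.2)
  obtain ⟨m, ⟨e₀⟩⟩ := Finite.exists_equiv_fin ι
  let I := ULift.{u} (Fin m)
  let y : I → ι := fun i => e₀.symm i.down
  let W' : Set (Points X) := ⋃ i : I, Set.range (Points.ofPt (j (y i)))
  have hW' : IsOpen W' := isOpen_iUnion fun i =>
    (isOpenMap_ofPt_of_repWith (fun _ _ g (_ : IsOpenImmersion g) => inferInstance) (hj (y i))).isOpen_range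
  have hW'd : Dense W' := (dense_codimZero hX).mono fun x hx =>
    Set.mem_iUnion.2 ⟨⟨e₀ ⟨x, hx⟩⟩, by
      show x ∈ Set.range (Points.ofPt (j (e₀.symm (e₀ ⟨x, hx⟩))))
      rw [e₀.symm_apply_apply]
      exact hyj ⟨x, hx⟩⟩
  choose l hl using fun i : I => exists_openSub_lift (W := W') (j (y i)) fun t => Set.mem_iUnion.2 ⟨i, t, rfl⟩
  haveI := mono_of_openImmersion (repWith_openSubι (X := X) hW')
  have hlo : ∀ i, RepWith @IsOpenImmersion (l i) := fun i =>
    repWith_of_isPullback (fst := 𝟙 _) (g := openSubι W')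
      (IsPullback.of_horiz_isIso_mono ⟨by rw [Category.id_comp, hl]⟩) (hj (y i))
  obtain ⟨U, μ, hμ⟩ := exists_iso_of_openCover (fun i => V (y i)) l hlo fun T g t => by
    obtain ⟨i, w, hw⟩ := Set.mem_iUnion.1 (ofPt_openSubι_mem g t)
    refine ⟨i, Points.ofScheme _ w, injective_map_of_mono (openSubι W') ?_⟩
    rw [← Points.map_comp, hl, ← Points.ofPt_eq_map_ofScheme, Points.map_ofPt]
    exact hw
  haveI := hμ
  let jU := μ ≫ openSubι W'
  have hjU : RepWith @IsOpenImmersion jU := repWith_comp (repWith_of_isIso μ) (repWith_openSubι hW')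
  haveI := mono_of_openImmersion hjU
  have hrange : Set.range (Points.map jU) = W' := by
    refine (Set.range_subset_iff.2 fun p => ?_).antisymm fun x hx => ?_
    · rw [Points.map_comp]
      exact (range_openSubι hX W').le ⟨_, rfl⟩
    · obtain ⟨p, hp⟩ := (range_openSubι hX W').ge hx
      exact ⟨Points.map (inv μ) p, by rw [← Points.map_comp, IsIso.inv_hom_id_assoc, hp]⟩
  choose u hu using fun i => (yon S).map_surjective (l i ≫ inv μ)
  have huj : ∀ i, (yon S).map (u i) ≫ jU = j (y i) := fun i => by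
    rw [hu, Category.assoc, IsIso.inv_hom_id_assoc, hl]
  haveI huo : ∀ i, IsOpenImmersion (u i).left := fun i => (repWith_yon_map_iff _ (u i)).1 (by
    rw [hu]; exact repWith_comp (hlo i) (repWith_of_isIso _))
  have hdisj : ∀ (i i' : I) (a : (V (y i)).left) (a' : (V (y i')).left),
      (u i).left a = (u i').left a' → i = i' := fun i i' a a' haa => by
    have e : Points.ofPt (j (y i)) a = Points.ofPt (j (y i')) a' := by
      rw [← huj, ← huj, ofPt_map, ofPt_map, haa]
    obtain ⟨x, ⟨⟨a₁, rfl⟩, a₂, ha₂⟩, hx⟩ := (dense_codimZero hX).inter_open_nonempty _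
      ((isOpenMap_ofPt_of_repWith (fun _ _ g (_ : IsOpenImmersion g) => inferInstance) (hj (y i))).isOpen_range.inter
        (isOpenMap_ofPt_of_repWith (fun _ _ g (_ : IsOpenImmersion g) => inferInstance) (hj (y i'))).isOpen_range)
      ⟨_, ⟨a, rfl⟩, a', e.symm⟩
    have h2 := honly _ a₂ (ha₂ ▸ hx)
    rw [ha₂, honly _ a₁ hx] at h2
    exact ULift.ext _ _ (e₀.symm.injective (Subtype.ext h2))
  have hcov : ∀ p : U.left, ∃ i, p ∈ Set.range (u i).left := fun p => by
    obtain ⟨i, a, ha⟩ := Set.mem_iUnion.1 (hrange.le ⟨Points.ofScheme U p, rfl⟩)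
    refine ⟨i, a, (Points.schemeEquiv U).injective (injective_map_of_mono jU ?_)⟩
    rw [← huj, ofPt_map, Points.ofPt_eq_map_ofScheme] at ha
    exact ha
  have hucl : ∀ i, IsClosed (Set.range (u i).left) := fun i => by
    have : (Set.range (u i).left)ᶜ = ⋃ (i' : I) (_ : i' ≠ i), Set.range (u i').left := by
      ext p
      simp only [Set.mem_compl_iff, Set.mem_iUnion]
      constructor
      · intro hp
        obtain ⟨i', hi'⟩ := hcov p
        exact ⟨i', fun h => hp (h ▸ hi'), hi'⟩
      · rintro ⟨i', hne, a', rfl⟩ ⟨a, ha⟩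
        exact hne (hdisj _ _ _ _ ha).symm
    rw [← isOpen_compl_iff, this]
    exact isOpen_iUnion fun i' => isOpen_iUnion fun _ => (u i').left.isOpenEmbedding.isOpen_range
  haveI : ∀ i, IsClosedImmersion (u i).left := fun i => IsClosedImmersion.of_isPreimmersion _ (hucl i)
  haveI := fun i => hqf (y i)
  haveI := fun i => hqe (y i)
  haveI := fun i => hZa (y i)
  let q₀ : (∐ fun i : I => (Zc (y i)).left) ⟶ U.left := Sigma.desc fun i => (qc (y i)).left ≫ (u i).left
  haveI hq₀ : IsFinite q₀ := H9Gal.QfhBasics.isFinite_sigmaDesc I _ _ fun i => inferInstance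
  have hq₀e : Etale q₀ := IsZariskiLocalAtSource.sigmaDesc fun i => inferInstance
  have hq₀s : Surjective q₀ := ⟨fun p => by
    obtain ⟨i, a, rfl⟩ := hcov p
    obtain ⟨z, rfl⟩ := (hqs' (y i)).surj a
    exact ⟨Sigma.ι (fun i : I => (Zc (y i)).left) i z, by
      rw [← Scheme.Hom.comp_apply, Sigma.ι_desc, Scheme.Hom.comp_apply]⟩⟩
  let Z : Over S := Over.mk (q₀ ≫ U.hom)
  let q : Z ⟶ U := Over.homMk q₀
  have hZaff : IsAffine Z.left := inferInstanceAs (IsAffine (∐ fun i : I => (Zc (y i)).left))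
  refine ⟨{ U := U, jU := jU, open_jU := hjU, qc := ?_, dense := hrange.symm ▸ hW'd, Z := Z, q := q,
            affine := hZaff, finite := hq₀, etale := hq₀e, surj := hq₀s, split := fun z => ?_ }⟩
  · haveI : CompactSpace Z.left := inferInstance
    exact ⟨(Set.range_eq_univ.2 hq₀s.surj) ▸ isCompact_range q₀.continuous⟩
  obtain ⟨i, z', rfl⟩ := (sigmaOpenCover fun i : I => (Zc (y i)).left).exists_eq z
  let ιi : Zc (y i) ⟶ Z := Over.homMk (Sigma.ι (fun i : I => (Zc (y i)).left) i) (by
    show Sigma.ι (fun i : I => (Zc (y i)).left) i ≫ q₀ ≫ U.hom = _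
    rw [Sigma.ι_desc_assoc, Category.assoc, Over.w, Over.w])
  have hιq : ιi ≫ q = qc (y i) ≫ u i := Over.OverMorphism.ext (Sigma.ι_desc _ _)
  haveI : IsFinite ιi.left := by
    haveI : IsFinite (ιi.left ≫ q₀) := by
      show IsFinite (Sigma.ι (fun i : I => (Zc (y i)).left) i ≫ q₀)
      rw [Sigma.ι_desc]
      infer_instance
    exact IsFinite.of_comp ιi.left q₀
  refine ⟨Zc (y i), ιi, inferInstanceAs (IsOpenImmersion (Sigma.ι (fun i : I => (Zc (y i)).left) i)),
    ιi.left.isClosedMap.isClosed_range, ⟨z', rfl⟩, fun P a b sq => hsplit (y i) P a b ?_⟩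
  rw [hιq, Functor.map_comp, Category.assoc, huj] at sq
  exact sq

/-- An integral cover by a scheme, finite étale over a dense open, factoring through a given étale cover locally. -/
theorem exists_integral_cover_finite_etale [QuasiSeparatedSpace S] (hX : IsAlgSpace X) (hqc : IsQuasiCompactSp X)
    (hqs : IsQuasiSeparatedSp X) (hirr : (irreducibleComponents (Points X)).Finite) {V : Over S}
    (b : (yon S).obj V ⟶ X) (hb : RepWith @Etale b) (hbs : RepWith @Surjective b) :
    ∃ (Y : Over S) (g : (yon S).obj Y ⟶ X) (U : Over S) (jU : (yon S).obj U ⟶ X),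
      RepWith @IsIntegralHom g ∧ RepWith @Surjective g ∧
      RepWith @IsOpenImmersion jU ∧ CompactSpace U.left ∧ Dense (Set.range (Points.map jU)) ∧
      (∀ (P : Sp S) (fst : P ⟶ (yon S).obj Y) (snd : P ⟶ (yon S).obj U), IsPullback fst snd g jU →
        RepWith @IsFinite snd ∧ RepWith @Etale snd) ∧
      ∀ y : Y.left, ∃ (W : Y.left.Opens) (c : Over.mk (W.ι ≫ Y.hom) ⟶ V), y ∈ W ∧
        (yon S).map c ≫ b = (yon S).map (Over.homMk W.ι rfl : Over.mk (W.ι ≫ Y.hom) ⟶ Y) ≫ g := by
  haveI := compactSpace_points_of_isQuasiCompactSp hqc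
  obtain ⟨V₀, kV, hV₀, hkV, hsurj₀⟩ := exists_affine_refinement b hb hbs
  haveI := hV₀
  let b₀ := (yon S).map kV ≫ b
  have hb₀ : RepWith @Etale b₀ := repWith_comp ((repWith_yon_map_iff _ kV).2 hkV) hb
  have hb₀s : RepWith @Surjective b₀ := repWith_surjective_of_map hb₀.1 (fun x => by
    obtain ⟨v, hv⟩ := hsurj₀ x
    exact ⟨Points.ofScheme V₀ v, by rw [← Points.ofPt_eq_map_ofScheme]; exact hv⟩)
  obtain ⟨G⟩ := exists_genCover hX hqs hirr b₀ hb₀
  haveI := G.affine
  haveI := mono_of_openImmersion G.open_jU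
  let c := (yon S).map G.q ≫ G.jU
  have hcq : IsQuasiCompactMor c := isQuasiCompactMor_of_qc_qs (IsAlgSpace.yon_obj G.Z) hX c
    (isQuasiCompactSp_yon_iff.2 inferInstance) hqs
  have hcs : IsQuasiSeparatedMor c :=
    isQuasiSeparatedMor_of_isSeparatedMor (isSeparatedMor_of_isSeparatedSp c isSeparatedSp_yon_affine)
  obtain ⟨Q, ν, c', hQ, hn, hfull⟩ := NormSp.exists_isRelNormalization (IsAlgSpace.yon_obj G.Z) hX c hcq hcs
  have hn' := isRelNormalization_self hQ hn
  have hνi : RepWith @IsIntegralHom ν := isIntegralMor_iff.1 hn.2.1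
  have hQs : IsQuasiSeparatedSp Q := isQuasiSeparatedSp_of_mor (isQuasiSeparatedMor_of_isSeparatedMor
    (isSeparatedMor_of_repWith (repWith_le (fun _ _ f (_ : IsIntegralHom f) => inferInstanceAs (IsSeparated f)) hνi)))
    hqs
  obtain ⟨P₀, r, a, sqP⟩ := hνi.1 b₀
  have hae : RepWith @Etale a := repWith_of_isPullback sqP.flip hb₀
  have has : RepWith @Surjective a := repWith_of_isPullback sqP.flip hb₀s
  have hloc : ∀ p : P₀.left, ∃ (W : Over S) (j : (yon S).obj W ⟶ Q) (k : W ⟶ V), RepWith @IsOpenImmersion j ∧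
      Points.ofPt a p ∈ Set.range (Points.map j) ∧ (yon S).map k ≫ b = j ≫ ν := fun p => by
    obtain ⟨O, hO, hpO, -⟩ := exists_isAffineOpen_mem_and_subset (x := p) (U := (⊤ : P₀.left.Opens)) trivial
    haveI : IsAffine (openOver P₀ O).left := hO
    let π := openIncl P₀ O
    haveI : IsOpenImmersion π.left := inferInstanceAs (IsOpenImmersion O.ι)
    haveI : Mono π := Over.mono_of_mono_left π
    let v := (yon S).map π ≫ a
    have hv : RepWith @Etale v := repWith_comp ((repWith_yon_map_iff _ _).2 (inferInstance : Etale π.left)) hae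
    obtain ⟨W, hpW, hW⟩ := exists_opens_openImmersion hQ hQs hn' hv (fun E qE rE sqE e => by
      obtain ⟨Zy, i, hio, hic, hez, hsp⟩ := G.split (qE.left e)
      haveI := hio
      haveI : Mono i := Over.mono_of_mono_left i
      let O' : E.left.Opens := qE.left ⁻¹ᵁ i.left.opensRange
      let εO := openIncl E O'
      haveI : IsOpenImmersion εO.left := inferInstanceAs (IsOpenImmersion O'.ι)
      have hrg : Set.range (εO.left ≫ qE.left) ⊆ Set.range i.left := by
        rintro _ ⟨t, rfl⟩
        exact t.2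
      let g₀ : (openOver E O').left ⟶ Zy.left := IsOpenImmersion.lift i.left (εO.left ≫ qE.left) hrg
      let g' : openOver E O' ⟶ Zy := Over.homMk g₀ (by
        rw [← Over.w i, IsOpenImmersion.lift_fac_assoc, Category.assoc, Over.w, Over.w])
      have hg' : g' ≫ i = εO ≫ qE := Over.OverMorphism.ext (IsOpenImmersion.lift_fac _ _ _)
      obtain ⟨Py, pa, pb', sqy'⟩ := hb₀.1 ((yon S).map (i ≫ G.q) ≫ G.jU)
      obtain ⟨pb, rfl⟩ := (yon S).map_surjective pb'
      have hwE : (yon S).map qE ≫ c' = (yon S).map rE ≫ v := sqE.w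
      have hk : ∀ {T : Over S} (t : T ⟶ E), (yon S).map (t ≫ rE ≫ π ≫ r) ≫ b₀
          = (yon S).map (t ≫ qE) ≫ c := fun t => by
        simp only [Functor.map_comp, Category.assoc]
        rw [← sqP.w]
        calc (yon S).map t ≫ (yon S).map rE ≫ (yon S).map π ≫ a ≫ ν
            = (yon S).map t ≫ ((yon S).map rE ≫ v) ≫ ν := by simp only [v, Category.assoc]
          _ = _ := by rw [← hwE, Category.assoc, hn.1]
      obtain ⟨mE', hm₁', hm₂'⟩ := sqy'.exists_lift ((yon S).map (εO ≫ rE ≫ π ≫ r)) ((yon S).map g') (by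
        rw [hk, ← hg']
        simp only [c, Functor.map_comp, Category.assoc])
      obtain ⟨mE, rfl⟩ := (yon S).map_surjective mE'
      have hm₁ : mE ≫ pb = εO ≫ rE ≫ π ≫ r := (yon S).map_injective (by rw [Functor.map_comp]; exact hm₁')
      have hm₂ : mE ≫ pa = g' := (yon S).map_injective (by rw [Functor.map_comp]; exact hm₂')
      obtain ⟨N', hN', heN', hmono⟩ := hsp Py pa pb sqy'.flip (mE.left ⟨e, hez⟩)
      let M : (openOver E O').left.Opens := mE.left ⁻¹ᵁ N'
      refine ⟨εO.left ''ᵁ M, ⟨?_, (εO.left ''ᵁ M).2⟩, ⟨⟨e, hez⟩, heN', rfl⟩, ?_⟩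
      · refine ((hic.preimage qE.left.continuous).isClosedEmbedding_subtypeVal.isClosedMap _ ?_ :)
        exact hN'.1.preimage mE.left.continuous
      haveI := hmono
      refine ⟨fun {T} s₁ s₂ hs => ?_⟩
      rw [← cancel_mono (εO.left ''ᵁ M).ι]
      have hin : ∀ s : T ⟶ (εO.left ''ᵁ M).toScheme,
          Set.range (s ≫ (εO.left ''ᵁ M).ι) ⊆ Set.range εO.left := fun s => by
        rintro _ ⟨t, rfl⟩
        obtain ⟨w, -, hw⟩ := (s t).2
        exact ⟨w, hw⟩
      let TT : Over S := Over.mk ((s₁ ≫ (εO.left ''ᵁ M).ι) ≫ E.hom)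
      have hw₂ : (s₂ ≫ (εO.left ''ᵁ M).ι) ≫ E.hom = TT.hom := by
        show _ = (s₁ ≫ (εO.left ''ᵁ M).ι) ≫ E.hom
        rw [← Over.w qE, ← Category.assoc, ← Category.assoc, Category.assoc s₂, ← hs]
        simp only [Category.assoc]
      let t₁ : TT ⟶ E := Over.homMk (s₁ ≫ (εO.left ''ᵁ M).ι) rfl
      let t₂ : TT ⟶ E := Over.homMk (s₂ ≫ (εO.left ''ᵁ M).ι) hw₂
      have hqt : t₁ ≫ qE = t₂ ≫ qE := Over.OverMorphism.ext (by simpa [t₁, t₂] using hs)
      obtain ⟨w₁, hw₁⟩ : ∃ w₁ : TT ⟶ openOver E O', w₁ ≫ εO = t₁ :=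
        ⟨Over.homMk (IsOpenImmersion.lift εO.left t₁.left (hin s₁)) (by
          rw [← Over.w εO, IsOpenImmersion.lift_fac_assoc, Over.w]), Over.OverMorphism.ext (IsOpenImmersion.lift_fac _ _ _)⟩
      obtain ⟨w₂, hw₂'⟩ : ∃ w₂ : TT ⟶ openOver E O', w₂ ≫ εO = t₂ :=
        ⟨Over.homMk (IsOpenImmersion.lift εO.left t₂.left (hin s₂)) (by
          rw [← Over.w εO, IsOpenImmersion.lift_fac_assoc, Over.w]), Over.OverMorphism.ext (IsOpenImmersion.lift_fac _ _ _)⟩
      have hgeq : w₁ ≫ g' = w₂ ≫ g' := by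
        rw [← cancel_mono i, Category.assoc, Category.assoc, hg', reassoc_of% hw₁, reassoc_of% hw₂', hqt]
      have hrange : ∀ (s : T ⟶ (εO.left ''ᵁ M).toScheme) (w : TT ⟶ openOver E O'),
          w.left ≫ εO.left = s ≫ (εO.left ''ᵁ M).ι → Set.range (w ≫ mE).left ⊆ Set.range N'.ι := by
        intro s w hsw
        rintro _ ⟨t, rfl⟩
        rw [Scheme.Opens.range_ι]
        obtain ⟨x, hx, hxe⟩ := (s t).2
        have : w.left t = x := εO.left.isOpenEmbedding.injective
          ((congrArg (fun f : T ⟶ E.left => f t) hsw).trans hxe.symm)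
        show mE.left (w.left t) ∈ N'
        rw [this]
        exact hx
      have hmE : (w₁ ≫ mE).left = (w₂ ≫ mE).left := by
        rw [← IsOpenImmersion.lift_fac N'.ι (w₁ ≫ mE).left
            (hrange s₁ w₁ (congrArg (fun h => h.left) hw₁)),
          ← IsOpenImmersion.lift_fac N'.ι (w₂ ≫ mE).left (hrange s₂ w₂ (congrArg (fun h => h.left) hw₂'))]
        congr 1
        rw [← cancel_mono (N'.ι ≫ pa.left), IsOpenImmersion.lift_fac_assoc, IsOpenImmersion.lift_fac_assoc]
        have := congrArg (fun h => h.left) hgeq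
        rw [← hm₂] at this
        simpa using this
      have hkeq : t₁ ≫ rE ≫ π ≫ r = t₂ ≫ rE ≫ π ≫ r := by
        rw [← hw₁, ← hw₂', Category.assoc, Category.assoc, ← hm₁, ← Category.assoc, ← Category.assoc,
          show w₁ ≫ mE = w₂ ≫ mE from Over.OverMorphism.ext hmE]
      have hreq : (t₁ ≫ rE) ≫ π = (t₂ ≫ rE) ≫ π := by
        apply (yon S).map_injective
        apply sqP.hom_ext
        · have h₁ := congrArg (fun h => (yon S).map t₁ ≫ h) hwE
          have h₂ := congrArg (fun h => (yon S).map t₂ ≫ h) hwE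
          simp only [v] at h₁ h₂
          simp only [Functor.map_comp, Category.assoc] at h₁ h₂ ⊢
          rw [← h₁, ← h₂, ← Functor.map_comp_assoc, ← Functor.map_comp_assoc, hqt]
        · rw [← Functor.map_comp, ← Functor.map_comp]
          exact congrArg _ (by simpa only [Category.assoc] using hkeq)
      exact left_hom_ext sqE (f := t₁.left) (g := t₂.left) (congrArg (fun h => h.left) hqt)
        (congrArg (fun h => h.left) ((cancel_mono π).1 hreq))) ⟨p, hpO⟩
    refine ⟨openOver (openOver P₀ O) W, _, openIncl (openOver P₀ O) W ≫ π ≫ r ≫ kV, hW, ?_, ?_⟩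
    · rw [range_map_yon]
      refine ⟨⟨⟨p, hpO⟩, hpW⟩, ?_⟩
      rw [ofPt_map, ofPt_map]
      rfl
    · simp only [v, Functor.map_comp, Category.assoc]
      rw [sqP.w]
  choose W j k hj hmem hk using hloc
  obtain ⟨Y, μ', hμ'⟩ := exists_iso_of_openCover W j hj fun T y t => by
    obtain ⟨m, hm⟩ := surjective_ofPt_of_repWith le_rfl has (Points.ofPt y t)
    exact ⟨m, hm ▸ hmem m⟩
  haveI := hμ'
  have hgi : RepWith @IsIntegralHom (μ' ≫ ν) :=
    haveI : MorphismProperty.ContainsIdentities (@IsIntegralHom : MorphismProperty Scheme.{u}) :=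
      ⟨fun _ => inferInstance⟩
    repWith_comp (repWith_of_isIso μ') hνi
  refine ⟨Y, μ' ≫ ν, G.U, G.jU, hgi, repWith_surjective_of_map hgi.rep ?_, G.open_jU, G.qc, G.dense, ?_, fun y => ?_⟩
  · have hclosed : IsClosed (Set.range (Points.map (μ' ≫ ν))) :=
      (isClosedMap_map_of_repWith (P := @IsIntegralHom) (fun _ _ f (_ : IsIntegralHom f) => inferInstance)
        hgi).isClosed_range
    have hsub : Set.range (Points.map G.jU) ⊆ Set.range (Points.map (μ' ≫ ν)) := by
      rw [range_map_yon]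
      rintro _ ⟨w, rfl⟩
      obtain ⟨z, rfl⟩ := G.surj.surj w
      refine ⟨Points.ofPt (c' ≫ inv μ') z, ?_⟩
      rw [Points.map_ofPt, Category.assoc, IsIso.inv_hom_id_assoc, hn.1]
      exact ofPt_map G.q G.jU z
    intro x
    exact (hclosed.closure_subset_iff.2 hsub) (G.dense x)
  · intro P fst snd sq
    have hjUe : LocP @Smooth G.jU := NormSp.locP_smooth_of_isEtaleMor
      (NormSp.isEtaleMor_of_repWith (DenseFinite.repWith_etale_of_openImmersion G.open_jU))
    have sqB : IsPullback (pullback.fst ν G.jU) (pullback.snd ν G.jU) ν G.jU := IsPullback.of_hasPullback _ _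
    have sqZ : IsPullback (𝟙 ((yon S).obj G.Z)) ((yon S).map G.q) c G.jU := by
      have := ((IsPullback.of_vert_isIso (fst := (yon S).map G.q) (snd := 𝟙 _) (f := 𝟙 _)
        (g := (yon S).map G.q) ⟨by simp⟩).paste_horiz (IsKernelPair.id_of_mono G.jU))
      rw [Category.comp_id] at this
      exact this.flip
    let mB : (yon S).obj G.Z ⟶ pullback ν G.jU := pullback.lift c' ((yon S).map G.q) hn.1
    have hnB := hfull (IsAlgSpace.yon_obj G.U) G.jU hjUe _ _ _ _ mB sqZ sqB
      ((pullback.lift_fst _ _ _).trans (Category.id_comp _).symm) (pullback.lift_snd _ _ _)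
    have hqi : IsIntegralMor ((yon S).map G.q) := isIntegralMor_iff.2 ((repWith_yon_map_iff _ G.q).2
      (haveI := G.finite; inferInstanceAs (IsIntegralHom G.q.left)))
    have hnZ : IsRelNormalization ((yon S).map G.q) ((yon S).map G.q) (𝟙 _) :=
      ⟨Category.id_comp _, hqi, fun Zt _ π g _ hg => ⟨g, ⟨Category.id_comp g, hg⟩, fun h' hh => by
        rw [← hh.1, Category.id_comp]⟩⟩
    obtain ⟨e, -, he⟩ := NormSp.exists_iso_of_isRelNormalization
      (isAlgSpace_pullback hX.diag hQ (IsAlgSpace.yon_obj _) ν G.jU) (IsAlgSpace.yon_obj G.Z) hnB hnZ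
    have sq' : IsPullback (fst ≫ μ') snd ν G.jU :=
      IsPullback.of_iso sq (Iso.refl _) (asIso μ') (Iso.refl _) (Iso.refl _) (by simp) (by simp) (by simp) (by simp)
    have hsnd : (sq'.isoPullback.hom ≫ e.hom) ≫ (yon S).map G.q = snd := by
      rw [Category.assoc, he, IsPullback.isoPullback_hom_snd]
    rw [← hsnd]
    haveI : MorphismProperty.ContainsIdentities (@IsFinite : MorphismProperty Scheme.{u}) := ⟨fun _ => inferInstance⟩
    exact ⟨repWith_comp (repWith_of_isIso _) ((repWith_yon_map_iff _ _).2 G.finite),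
      repWith_comp (repWith_of_isIso _) ((repWith_yon_map_iff _ _).2 G.etale)⟩
  · obtain ⟨m, hm⟩ := surjective_ofPt_of_repWith le_rfl has (Points.ofPt μ' y)
    obtain ⟨o', ho'⟩ := (yon S).map_surjective (j m ≫ inv μ')
    have hjo : (yon S).map o' ≫ μ' = j m := by rw [ho', Category.assoc, IsIso.inv_hom_id, Category.comp_id]
    haveI : IsOpenImmersion o'.left := (repWith_yon_map_iff _ o').1 (by
      rw [ho']
      exact repWith_comp (hj m) (repWith_of_isIso _))
    have hyr : y ∈ o'.left.opensRange := by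
      have h := hmem m
      rw [hm, range_map_yon] at h
      obtain ⟨w, hw⟩ := h
      refine ⟨w, ?_⟩
      rw [← hjo, ofPt_map] at hw
      have hinj : Function.Injective (Points.ofPt μ') := by
        intro y₁ y₂ h12
        have h' := congrArg (Points.map (inv μ')) h12
        rw [Points.map_ofPt, Points.map_ofPt, IsIso.hom_inv_id] at h'
        exact (Points.schemeEquiv Y).injective h'
      exact hinj hw
    let W₀ : Over S := Over.mk (o'.left.opensRange.ι ≫ Y.hom)
    let e' : W₀ ⟶ W m := Over.homMk o'.left.isoOpensRange.inv (by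
      show o'.left.isoOpensRange.inv ≫ (W m).hom = o'.left.opensRange.ι ≫ Y.hom
      rw [← Over.w o', ← Category.assoc, Scheme.Hom.isoOpensRange_inv_comp])
    refine ⟨o'.left.opensRange, e' ≫ k m, hyr, ?_⟩
    rw [Functor.map_comp, Category.assoc, hk, ← hjo, Category.assoc, ← Category.assoc, ← Functor.map_comp]
    congr 2
    exact Over.OverMorphism.ext (Scheme.Hom.isoOpensRange_inv_comp o'.left)

end Groth.Agent.H13GenEtale
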