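import Groth.Agent.H15Subtr.EtMor
import Mathlib

/-!
A finite étale scheme over a connected affine scheme is split by a finite étale cover.
-/

set_option autoImplicit false
set_option linter.style.haveILetI false
universe u

open CategoryTheory CategoryTheory.Limits AlgebraicGeometry TensorProduct

namespace Groth.Agent.H13GenEtale

/-- A finite flat algebra of finite presentation has constant rank over a connected base. -/
theorem exists_rankAtStalk_eq (R S : Type u) [CommRing R] [CommRing S] [Algebra R S] [Module.Finite R S]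
    [Algebra.Etale R S] [PreconnectedSpace (PrimeSpectrum R)] :
    ∃ n : ℕ, Module.rankAtStalk (R := R) S = n := by
  haveI : Module.FinitePresentation R S := Module.FinitePresentation.of_finite_of_finitePresentation R S
  haveI : Module.Flat R S := Algebra.Smooth.flat R S
  by_cases h : Nonempty (PrimeSpectrum R)
  · obtain ⟨p₀⟩ := h
    exact ⟨Module.rankAtStalk (R := R) S p₀, funext fun p =>
      (Module.isLocallyConstant_rankAtStalk (R := R) (M := S)).apply_eq_of_preconnectedSpace p p₀⟩
  · exact ⟨0, funext fun p => (h ⟨p⟩).elim⟩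

/-- A finite étale scheme over a connected affine scheme becomes, after a finite étale surjective base change,
covered by sections. -/
theorem exists_split_sections {E V : Scheme.{u}} [IsAffine V] [PreconnectedSpace V] (p : E ⟶ V) [IsFinite p]
    [Etale p] : ∃ (Z : Scheme.{u}) (q : Z ⟶ V), IsAffine Z ∧ IsFinite q ∧ Etale q ∧ Surjective q ∧
      ∀ (P : Scheme.{u}) (fst : P ⟶ E) (snd : P ⟶ Z), IsPullback fst snd p q →
        ∀ e : P, ∃ s : Z ⟶ P, s ≫ snd = 𝟙 Z ∧ e ∈ Set.range s := by
  haveI : IsAffine E := isAffine_of_isAffineHom p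
  let R := Γ(V, ⊤)
  let B := Γ(E, ⊤)
  letI : Algebra R B := p.appTop.hom.toAlgebra
  haveI : Module.Finite R B := p.finite_appTop
  haveI : Algebra.Etale R B := HasRingHomProperty.appTop (P := @Etale) p inferInstance
  haveI : PreconnectedSpace (PrimeSpectrum R) :=
    (V.isoSpec.hom.homeomorph.surjective.denseRange.preconnectedSpace V.isoSpec.hom.continuous :
      PreconnectedSpace ↥(Spec R))
  obtain ⟨n, hn⟩ := exists_rankAtStalk_eq R B
  obtain ⟨T, iT, aT, hff, hfin, het, hsp⟩ := Algebra.IsFiniteSplit.exists_tensorProduct_of_etale (R := R) (S := B) hn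
  obtain ⟨m, ⟨θ⟩⟩ := hsp.nonempty_algEquiv_fun
  let q₀ : Spec (.of T) ⟶ Spec R := Spec.map (CommRingCat.ofHom (algebraMap R T))
  let q := q₀ ≫ V.isoSpec.inv
  haveI : IsFinite q₀ := (IsFinite.SpecMap_iff _).2 (RingHom.finite_algebraMap.2 hfin)
  haveI : Etale q₀ := (HasRingHomProperty.Spec_iff (P := @Etale)).2 (RingHom.etale_algebraMap.2 het)
  haveI : Surjective q₀ := ⟨PrimeSpectrum.comap_surjective_of_faithfullyFlat⟩
  refine ⟨Spec (.of T), q, inferInstance, inferInstance, inferInstance, inferInstance, fun P fst snd sq e => ?_⟩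
  have hp : p ≫ V.isoSpec.hom = E.isoSpec.hom ≫ Spec.map (CommRingCat.ofHom (algebraMap R B)) :=
    (Scheme.isoSpec_hom_naturality p).symm
  have sq' : IsPullback snd (fst ≫ E.isoSpec.hom) q₀ (Spec.map (CommRingCat.ofHom (algebraMap R B))) :=
    (IsPullback.of_iso sq (Iso.refl _) E.isoSpec (Iso.refl _) V.isoSpec (by simp) (by simp)
      hp (by simp [q])).flip
  let e₀ := (sq'.isoPullback ≪≫ pullbackSpecIso R T B)
  let e₁ : P ≅ Spec (.of (Fin m → T)) :=
    e₀ ≪≫ Scheme.Spec.mapIso θ.toRingEquiv.toCommRingCatIso.symm.op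
  have he₁ : e₁.inv ≫ snd = Spec.map (CommRingCat.ofHom (algebraMap T (Fin m → T))) := by
    simp only [e₁, e₀, Iso.trans_inv, Category.assoc, IsPullback.isoPullback_inv_fst, pullbackSpecIso_inv_fst',
      Functor.mapIso_inv, Iso.op_inv, Iso.symm_inv, Scheme.Spec_map, Quiver.Hom.unop_op, ← Spec.map_comp]
    erw [pullbackSpecIso_inv_fst', ← Spec.map_comp]
    refine congrArg Spec.map ?_
    ext t : 2
    exact θ.commutes t
  obtain ⟨i, x, hx⟩ := PrimeSpectrum.exists_comap_evalRingHom_eq (R := fun _ : Fin m => T) (e₁.hom e)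
  refine ⟨Spec.map (CommRingCat.ofHom (Pi.evalRingHom (fun _ : Fin m => T) i)) ≫ e₁.inv, ?_, x, ?_⟩
  · rw [Category.assoc, he₁, ← Spec.map_comp]
    exact (congrArg Spec.map (by ext t; rfl)).trans (Spec.map_id _)
  · have hx' : (Spec.map (CommRingCat.ofHom (Pi.evalRingHom (fun _ : Fin m => T) i))) x = e₁.hom e := hx
    rw [Scheme.Hom.comp_apply, hx', ← Scheme.Hom.comp_apply, e₁.hom_inv_id]
    rfl

/-- A finite étale scheme over a connected affine scheme becomes, after a finite étale surjective base change,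
a disjoint union of clopen pieces mapping monomorphically to the base. -/
theorem exists_split {E V : Scheme.{u}} [IsAffine V] [PreconnectedSpace V] (p : E ⟶ V) [IsFinite p]
    [Etale p] : ∃ (Z : Scheme.{u}) (q : Z ⟶ V), IsAffine Z ∧ IsFinite q ∧ Etale q ∧ Surjective q ∧
      ∀ (P : Scheme.{u}) (fst : P ⟶ E) (snd : P ⟶ Z), IsPullback fst snd p q →
        ∀ e : P, ∃ N : P.Opens, IsClopen (N : Set P) ∧ e ∈ N ∧ Mono (N.ι ≫ snd) := by
  obtain ⟨Z, q, h1, h2, h3, h4, h5⟩ := exists_split_sections p
  refine ⟨Z, q, h1, h2, h3, h4, fun P fst snd sq e => ?_⟩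
  obtain ⟨s, hs, he⟩ := h5 P fst snd sq e
  haveI : Etale snd := MorphismProperty.of_isPullback sq ‹Etale p›
  haveI : IsFinite snd := MorphismProperty.of_isPullback sq ‹IsFinite p›
  haveI := H15Subtr.isOpenImmersion_section snd s hs
  haveI := H15Subtr.isClosedImmersion_section snd s hs
  refine ⟨s.opensRange, ⟨s.isClosedEmbedding.isClosed_range, s.isOpenEmbedding.isOpen_range⟩, he, ?_⟩
  have : s.opensRange.ι ≫ snd = s.isoOpensRange.inv := by
    rw [← Category.comp_id s.isoOpensRange.inv, ← hs, ← Category.assoc, Scheme.Hom.isoOpensRange_inv_comp]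
  rw [this]
  infer_instance

end Groth.Agent.H13GenEtale
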